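import Groth.Agent.Canon.K107.ExistsDual
import Groth.Agent.Canon.K769.Basic
import Groth.Agent.ProjDual.K271.CMDual
import Groth.Agent.Surf.K457.Dual
import Groth.Agent.Props.K592.NormLow
import Groth.Agent.AdjLin.K801.Amp
import Groth.Agent.AdjLin.K801.LEq
import Groth.Agent.AdjLin.K801.SmDim
import Groth.Agent.DelIll.K890.Polarized
import Groth.Agent.S12358
import Groth.Agent.S0002
import Groth.Agent.CohqB.SerTw
import Groth.Agent.CurvesB.HZero
import Groth.Agent.LoccohB.AdStruct
import Groth.Agent.VarietyA.GlobGen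

/-!
# Kodaira vanishing for the dualizing sheaf of a normal projective surface

* `isSD_of_isRDualOver`: on a Cohen–Macaulay equidimensional proper scheme over a field the dualizing sheaf satisfies Serre
  duality in all degrees;
* `subsingleton_h0`: no sections of the inverse of an ample module;
* `vanish`: `H^1(ω ⊗ L) = H^2(ω ⊗ L) = 0` for `L` ample on a normal proper geometrically connected surface in characteristic
  zero.
-/

set_option autoImplicit false
universe u
open CategoryTheory CategoryTheory.Limits AlgebraicGeometry TopologicalSpace Opposite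
attribute [local instance] HasDerivedCategory.standard
open Groth.Agent.Lefpen.H725.CocDef Groth.Agent.Lefpen.H521.CartierCoc
open K801.Cousin K801.CousinH1 Groth.Agent.Dix.IdealModCartier Groth.Agent.Fga.PicMon
open K801.LEq K801.Amp Groth.Agent Groth.Agent.CurvesC.RepX
open Groth.Agent.CohtopA Groth.Agent.CohtopA.Sec Groth.Agent.MiscA.CurveH1B Groth.Agent.MiscA.CurveH1C

namespace K348.NormSurf

/-- Serre duality for the dualizing sheaf. -/
theorem isSD_of_isRDualOver (k : Type u) [Field k] (X : Scheme.{u}) [X.Over (Spec (CommRingCat.of k))]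
    [IsProper (X ↘ Spec (CommRingCat.of k))] (n : ℕ)
    (hCM : ∀ x : X, LocCoh.IsCohenMacaulayLocalRing (X.presheaf.stalk x))
    (heq : ∀ Z : Set ↥X, Z ∈ irreducibleComponents ↥X → topologicalKrullDim ↥Z = (n : WithBot ℕ∞))
    (hdim : topologicalKrullDim X ≤ (n : WithBot ℕ∞))
    {ω : X.Modules} {tr : Coh.HH X ω n →ₗ[k] k} (hω : Canon.IsRDualOver k X n ω tr) :
    Coh.IsCoh ω ∧ K457.Dual.IsSD k ω n := by
  have hN : IsNoetherian X := Groth.Agent.LoccohB.AdStruct.isNoetherian_of_finiteType (X ↘ Spec (CommRingCat.of k))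
  obtain ⟨ω₀, tr₀, hc₀, h₀⟩ := K107.ExistsDual.exists_isRDualOver k X n hdim
  obtain ⟨e₀⟩ := K769.Basic.nonempty_iso hω h₀
  have hc : Coh.IsCoh ω := Sga67.CohBasic.isCoh_of_iso e₀ hc₀
  obtain ⟨W, hW, τ, hτ⟩ := K271.CMDual.exists_form k n hCM heq
  obtain ⟨t', ht'⟩ := K271.CMDual.exists_isPair_of_form k n τ hτ
  have hp : K271.CMDual.IsPair k n ω tr := by
    intro F hF ψ
    obtain ⟨φ, hφ, huniq⟩ := (hω.2 F hF.1).existsUnique ψ
    refine ⟨φ, fun x => ?_, fun φ' hφ' => huniq φ' ?_⟩
    · exact (LinearMap.congr_fun hφ x).symm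
    · exact LinearMap.ext fun x => (hφ' x).symm
  obtain ⟨e⟩ := K271.CMDual.nonempty_iso k hW hc ht' hp
  exact ⟨hc, K457.Dual.isSD_congr e.symm ⟨τ, hτ⟩⟩

variable {X : Scheme.{u}}

/-- The inverse of an ample module has no sections. -/
theorem subsingleton_h0 {k : Type u} [Field k] (f : X ⟶ Spec (CommRingCat.of k)) [IsProper f] [IsIntegral X]
    (hX : ¬ IsAffineOpen (⊤ : X.Opens)) {L L' : X.Modules} (hL : CohB1.IsAmple L) (hL' : ClSub.IsInverseOf L' L) :
    Subsingleton (Coh.HH X L' 0) := by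
  obtain ⟨c, hc⟩ := exists_hasCoc hL.1
  have hc' := hasCoc_inv hL' hc
  obtain ⟨D⟩ := nonempty_dat hc'
  have h1 : ∀ (s : Γ(L', ⊤)) (x : (⊤ : X.Opens)), D.value s x = 0 := by
      intro s x
      refine eq_zero_of_ample f hX hL hc _ fun y => ?_
      rw [D.value_const s x ⟨y, trivial⟩]
      have h2 := mem_Mx.mp (D.value_mem s ⟨y, trivial⟩)
      rwa [div_inv_eq_mul] at h2
  have key : ∀ s : Γ(L', ⊤), s = 0 := by
    intro s
    apply D.toK_injective ⊤
    apply (KS X).sec_ext
    intro x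
    rw [D.val_toK, D.val_toK, h1, h1]
  exact ⟨fun a b => (CurvesB.HZero.equivAdd L').injective ((key _).trans (key _).symm)⟩

/-- Kodaira vanishing for the dualizing sheaf of a normal surface. -/
theorem vanish {k : Type u} [Field k] [CharZero k] [X.Over (Spec (CommRingCat.of k))]
    [IsProper (X ↘ Spec (CommRingCat.of k))] [GeometricallyConnected (X ↘ Spec (CommRingCat.of k))] [IsIntegral X]
    (hX : ∀ x : X, IsDomain (X.presheaf.stalk x) ∧ IsIntegrallyClosed (X.presheaf.stalk x))
    (hdim : topologicalKrullDim X = 2) {ω : X.Modules} {tr : Coh.HH X ω 2 →ₗ[k] k}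
    (hω : Canon.IsRDualOver k X 2 ω tr) {L : X.Modules} (hL : CohB1.IsAmple L) :
    Subsingleton (Coh.HH X (CohB1.tensorMod ω L) 1) ∧ Subsingleton (Coh.HH X (CohB1.tensorMod ω L) 2) := by
  have hN : IsNoetherian X := Groth.Agent.LoccohB.AdStruct.isNoetherian_of_finiteType (X ↘ Spec (CommRingCat.of k))
  have hCM : ∀ x : X, LocCoh.IsCohenMacaulayLocalRing (X.presheaf.stalk x) := by
    intro x
    have := (hX x).1
    have := (hX x).2
    refine K592.NormLow.isCM_of_normal _ ?_
    rw [← hdim]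
    exact K592.NormLow.ringKrullDim_stalk_le X x
  have heq : ∀ Z : Set ↥X, Z ∈ irreducibleComponents ↥X → topologicalKrullDim ↥Z = ((2 : ℕ) : WithBot ℕ∞) := by
    intro Z hZ
    have h1 : Z = Set.univ := by
      have := irreducibleComponents_eq_singleton (X := X)
      rw [this] at hZ
      exact hZ
    subst h1
    rw [← Nat.cast_ofNat] at hdim
    rw [← hdim]
    exact (Homeomorph.Set.univ X).isHomeomorph.topologicalKrullDim_eq _
  obtain ⟨hc, hSD⟩ := isSD_of_isRDualOver k X 2 hCM heq (by rw [hdim]; rfl) hω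
  obtain ⟨L', hL'i, hL'⟩ := K890.Polarized.exists_inverse hL.1
  have hL'q : Coh.IsQCoh L' := Ega2.QCohLocal.isQCoh_of_isInvertible hL'i
  obtain ⟨e⟩ : Nonempty (CohB1.tensorMod L' L ≅ Coh.structureModule X) := hL'
  have hh1 : Subsingleton (Coh.HH X L' 1) := by
    refine S12358.result k X (X ↘ Spec (CommRingCat.of k)) hX hdim.ge L L' hL ?_
    have h1 : Nonempty (CohB1.tensorMod L' L ≅ Coh.structureModule X) := ⟨e⟩
    rw [← mc_eq_iff, mc_tensor] at h1 ⊢
    rw [mul_comm, h1]
  have hh0 : Subsingleton (Coh.HH X L' 0) :=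
    subsingleton_h0 (X ↘ Spec (CommRingCat.of k)) (K801.SmDim.not_isAffineOpen_top (n := 2)
      (X ↘ Spec (CommRingCat.of k)) (by omega) (by rw [hdim]; rfl)) hL ⟨e⟩
  have hco : Coh.IsCoh (CohB1.tensorMod ω L) := CohqB.SerTw.isCoh_tensorMod hc hL.1
  have key : ∀ i j : ℕ, i + j = 2 → Subsingleton (Coh.HH X L' i) →
      Subsingleton (Coh.HH X (CohB1.tensorMod ω L) j) := by
    intro i j hij hi
    have h0 : Module.Finite k (Coh.HH X (CohB1.tensorMod ω L) j) := S0002.result k X _ hco j
    refine (Module.finrank_zero_iff (R := k)).mp ?_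
    have h1 := hSD.finrank_eq hL'q e i j hij
    rw [(CurvesC.HV.equiv k L' i).finrank_eq, (CurvesC.HV.equiv k _ j).finrank_eq] at h1
    rw [← h1]
    exact Module.finrank_zero_of_subsingleton
  exact ⟨key 1 1 rfl hh1, key 0 2 rfl hh0⟩

end K348.NormSurf
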