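import Groth.Agent.Variety.K432.Polar
import Groth.Agent.Variety.K432.NefBasic
import Groth.Agent.VBCurve.K708.Deg
import Groth.Agent.VBCurve.K708.Dual
import Groth.Agent.ASBun.K791.Dual
import Groth.Agent.Dcoh.MonPull292
import Groth.Agent.Dcoh.MonTm
import Groth.Agent.Grpsch.PicGrp
import Groth.Agent.Krr.H492.DualK

/-!
# The dual of a bundle: integral pairing of generic stalks and nefness

* `mono_transpose`: an epimorphism `V ⟶ M` of dualizable modules is transposed to a monomorphism;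
* `exists_inv_sub`: an invertible quotient of `V` gives an invertible submodule of the dual of `V`, of opposite degree;
* `stalkPr`: the pairing of the stalks defined by an exact pairing;
* `exists_dual`: the dual of a bundle without invertible subsheaves of positive degree is nef.
-/

set_option autoImplicit false
set_option backward.isDefEq.respectTransparency false
universe u v w

open CategoryTheory CategoryTheory.Limits AlgebraicGeometry Opposite TopologicalSpace MonoidalCategory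

noncomputable section

namespace K348.DualNef

open Groth.Agent

section Abs

variable {C : Type w} [Category.{v} C] [MonoidalCategory C]

/-- Transposition by a pairing is injective. -/
theorem eq_of_pair {N M Z : C} [ExactPairing N M] {g₁ g₂ : Z ⟶ N}
    (h : M ◁ g₁ ≫ ε_ N M = M ◁ g₂ ≫ ε_ N M) : g₁ = g₂ := by
  let _ : HasLeftDual M := ⟨N⟩
  have key : ∀ g : Z ⟶ N, tensorLeftHomEquiv Z N M (𝟙_ C) (M ◁ g ≫ ε_ N M) = g ≫ (ρ_ N).inv := fun g =>
    tensorLeftHomEquiv_whiskerLeft_comp_evaluation (Y := Z) (Z := M) g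
  have h1 : g₁ ≫ (ρ_ N).inv = g₂ ≫ (ρ_ N).inv := by
    rw [← key, ← key, h]
  rwa [cancel_mono] at h1

/-- The transpose of a morphism all whose whiskerings are epimorphisms is a monomorphism. -/
theorem exists_mono {F V N M : C} [ExactPairing F V] [ExactPairing N M] (q : V ⟶ M)
    (hq : ∀ Z, Epi (q ▷ Z)) : ∃ i : N ⟶ F, Mono i := by
  let _ : HasLeftDual M := ⟨N⟩
  let _ : HasLeftDual V := ⟨F⟩
  let i : N ⟶ F := leftAdjointMate q
  have hi : V ◁ i ≫ ε_ F V = q ▷ N ≫ ε_ N M := leftAdjointMate_comp_evaluation (X := V) (Y := M) q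
  refine ⟨i, ⟨fun {Z} g₁ g₂ h => ?_⟩⟩
  have key : ∀ g : Z ⟶ N, V ◁ (g ≫ i) ≫ ε_ F V = q ▷ Z ≫ M ◁ g ≫ ε_ N M := fun g => by
    rw [MonoidalCategory.whiskerLeft_comp, Category.assoc, hi, whisker_exchange_assoc]
  have h2 : q ▷ Z ≫ M ◁ g₁ ≫ ε_ N M = q ▷ Z ≫ M ◁ g₂ ≫ ε_ N M := by
    rw [← key, ← key, h]
  have := hq Z
  exact eq_of_pair ((cancel_epi _).mp h2)

end Abs

open scoped Groth.Agent.Dcoh.MonCat

section Sub

variable {X : Scheme.{u}}

theorem epi_whiskerRight {V M : X.Modules} (q : V ⟶ M) [Epi q] (Z : X.Modules) : Epi (q ▷ Z) := by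
  have : (tensorRight Z).IsLeftAdjoint := inferInstance
  have h : Epi ((tensorRight Z).map q) := inferInstance
  exact h

/-- An invertible quotient of the dual gives an invertible submodule. -/
theorem exists_inv_sub {F V : X.Modules} [ExactPairing F V] {M : X.Modules} (hM : PicF.IsInvertible M)
    (q : V ⟶ M) [Epi q] : ∃ (N : X.Modules) (_ : PicF.IsInvertible N) (i : N ⟶ F), Mono i ∧
      Nonempty (CohB1.tensorMod M N ≅ Coh.structureModule X) := by
  obtain ⟨N, hN, ⟨i⟩⟩ := K708.Dual.exists_dual (Ega2.QCohLocal.isFinLocFreeOfRank_one_iff.mpr hM)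
  let L' := Krr.H492.DualK.dl M
  let e : M ⊗ L' ≅ 𝟙_ X.Modules := @asIso _ _ _ _ (Grpsch.PicGrp.ev M) (Grpsch.PicGrp.isIso_ev hM)
  let e1 : N ≅ L' := ASBun.K791.Dual.dualIsoInverse (W := M) (V := N) e ((β_ L' M) ≪≫ e)
  let _ : ExactPairing N M := BraidedCategory.exactPairing_swap M N
  obtain ⟨j, hj⟩ := exists_mono (F := F) (V := V) (N := N) (M := M) q fun Z => epi_whiskerRight q Z
  exact ⟨N, Ega2.QCohLocal.isFinLocFreeOfRank_one_iff.mp hN, j, hj, ⟨whiskerLeftIso M e1 ≪≫ e⟩⟩

end Sub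

section Stalk

open K476.TensStalk RefHull K848.TF K849.Cst K432.Polar Groth.Agent.Dcoh.MonTm

variable {X : Scheme.{u}}

theorem stalkMapₗ_spec {F G : X.Modules} (φ : F ⟶ G) {x y : X} (h : x ⤳ y) (m : F.presheaf.stalk y) :
    G.presheaf.stalkSpecializes h (stalkMapₗ φ y m) = stalkMapₗ φ x (F.presheaf.stalkSpecializes h m) := by
  obtain ⟨U, hy, m, rfl⟩ := F.presheaf.exists_germ_eq m
  rw [stalkMapₗ_germ, germ_spec, germ_spec, stalkMapₗ_germ]

theorem stalkEquiv_spec {x y : X} (h : x ⤳ y) (r : X.presheaf.stalk y) :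
    (Coh.structureModule X).presheaf.stalkSpecializes h (Fdesc.StructMod.stalkEquiv y r) =
      Fdesc.StructMod.stalkEquiv x (X.presheaf.stalkSpecializes h r) := by
  obtain ⟨U, hy, r, rfl⟩ := X.presheaf.exists_germ_eq r
  rw [Fdesc.StructMod.stalkEquiv_germ, germ_spec, germ_spec_O, Fdesc.StructMod.stalkEquiv_germ]

theorem stalkEquiv_symm_spec {x y : X} (h : x ⤳ y) (r : (Coh.structureModule X).presheaf.stalk y) :
    (Fdesc.StructMod.stalkEquiv x).symm ((Coh.structureModule X).presheaf.stalkSpecializes h r) =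
      X.presheaf.stalkSpecializes h ((Fdesc.StructMod.stalkEquiv y).symm r) := by
  obtain ⟨r, rfl⟩ := (Fdesc.StructMod.stalkEquiv y).surjective r
  rw [stalkEquiv_spec, LinearEquiv.symm_apply_apply, LinearEquiv.symm_apply_apply]

variable {V F : X.Modules} (t : CohB1.tensorMod V F ⟶ Coh.structureModule X)

/-- The pairing of the stalks. -/
def spr (x : X) : V.presheaf.stalk x →ₗ[X.presheaf.stalk x] F.presheaf.stalk x →ₗ[X.presheaf.stalk x]
    X.presheaf.stalk x :=
  LinearMap.mk₂ (X.presheaf.stalk x)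
    (fun e v => (Fdesc.StructMod.stalkEquiv x).symm (stalkMapₗ t x (stmul e v)))
    (fun a b c => by rw [add_stmul, map_add, map_add]) (fun r a b => by rw [smul_stmul, map_smul, map_smul])
    (fun a b c => by rw [stmul_add, map_add, map_add]) (fun r a b => by rw [stmul_smul, map_smul, map_smul])

theorem spr_apply (x : X) (e : V.presheaf.stalk x) (v : F.presheaf.stalk x) :
    spr t x e v = (Fdesc.StructMod.stalkEquiv x).symm (stalkMapₗ t x (stmul e v)) := rfl

theorem spr_spec {x y : X} (h : x ⤳ y) (e : V.presheaf.stalk y) (v : F.presheaf.stalk y) :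
    spr t x (V.presheaf.stalkSpecializes h e) (F.presheaf.stalkSpecializes h v) =
      X.presheaf.stalkSpecializes h (spr t y e v) := by
  rw [spr_apply, spr_apply, ← stalkSpecializes_stmul, ← stalkMapₗ_spec, stalkEquiv_symm_spec]

theorem spr_germ {U : X.Opens} (x : X) (hx : x ∈ U) (e : Γ(V, U)) (v : Γ(F, U)) :
    spr t x (V.presheaf.germ U x hx e) (F.presheaf.germ U x hx v) =
      X.presheaf.germ U x hx (sc (t.app U (tm e v))) := by
  rw [spr_apply, stmul_germ, stalkMapₗ_germ, LinearEquiv.symm_apply_eq, Fdesc.StructMod.stalkEquiv_germ]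
  rfl

/-- The triangle identity on sections. -/
theorem exists_coev (F V : X.Modules) [ExactPairing F V] (x : X) : ∃ (U : X.Opens) (_ : x ∈ U) (n : ℕ)
    (m : Fin n → Γ(F, U)) (m' : Fin n → Γ(V, U)), ∀ (W : X.Opens) (i : W ⟶ U) (s : Γ(F, W)),
      s = ∑ j, sc ((ε_ F V).app W (tm (V.presheaf.map i.op (m' j)) s)) • F.presheaf.map i.op (m j) := by
  obtain ⟨U, i₀, hx, n, m, m', h⟩ := exists_sum_tm ((η_ F V).app ⊤ (cs 1)) (x := x) trivial
  refine ⟨U, hx, n, m, m', fun W i s => ?_⟩
  have h1 := ExactPairing.evaluation_coevaluation F V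
  have h2 := congr(($h1).app W (tm (cs 1) s))
  have h3 : (η_ F V).app W (cs 1) = ∑ j, tm (F.presheaf.map i.op (m j)) (V.presheaf.map i.op (m' j)) := by
    have e1 : (F ⊗ V).presheaf.map (i ≫ i₀).op ((η_ F V).app ⊤ (cs 1)) = (η_ F V).app W (cs 1) := by
      have e2 := congr($((η_ F V).mapPresheaf.naturality (i ≫ i₀).op) (cs 1))
      have e3 : (𝟙_ X.Modules).presheaf.map (i ≫ i₀).op (cs 1) = cs 1 := by
        rw [cs_res, map_one]
      exact e2.symm.trans (congrArg _ e3)
    have e4 : (F ⊗ V).presheaf.map (i ≫ i₀).op ((η_ F V).app ⊤ (cs 1)) =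
        (F ⊗ V).presheaf.map i.op ((F ⊗ V).presheaf.map i₀.op ((η_ F V).app ⊤ (cs 1))) := by
      rw [op_comp, Functor.map_comp]
      rfl
    rw [← e1, e4, h, map_sum]
    exact Finset.sum_congr rfl fun j _ => tm_res i _ _
  rw [comp_ap, comp_ap, comp_ap, whiskerRight_tm, h3, leftUnitor_hom_tm, sum_tm, map_sum, map_sum, sc_cs, one_smul,
    rightUnitor_inv_ap] at h2
  have h4 := congr((ρ_ F).hom.app W $h2)
  rw [map_sum, rightUnitor_hom_tm, sc_cs, one_smul] at h4
  refine h4.symm.trans (Finset.sum_congr rfl fun j _ => ?_)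
  rw [associator_hom_tm, whiskerLeft_tm, rightUnitor_hom_tm]

/-- The evaluation of an exact pairing. -/
def evp (F V : X.Modules) [ExactPairing F V] : CohB1.tensorMod V F ⟶ Coh.structureModule X := ε_ F V

/-- The triangle identity on stalks. -/
theorem exists_coev_stalk (F V : X.Modules) [ExactPairing F V] (x : X) : ∃ (n : ℕ)
    (m : Fin n → F.presheaf.stalk x) (m' : Fin n → V.presheaf.stalk x), ∀ v : F.presheaf.stalk x,
      v = ∑ j, spr (evp F V) x (m' j) v • m j := by
  obtain ⟨U, hx, n, m, m', h⟩ := exists_coev F V x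
  refine ⟨n, fun j => F.presheaf.germ U x hx (m j), fun j => V.presheaf.germ U x hx (m' j), fun v => ?_⟩
  obtain ⟨W, hW, s, rfl⟩ := F.presheaf.exists_germ_eq v
  let i : U ⊓ W ⟶ U := homOfLE inf_le_left
  let i' : U ⊓ W ⟶ W := homOfLE inf_le_right
  have hxW : x ∈ U ⊓ W := ⟨hx, hW⟩
  have e1 : F.presheaf.germ W x hW s = F.presheaf.germ (U ⊓ W) x hxW (F.presheaf.map i'.op s) :=
    (TopCat.Presheaf.germ_res_apply _ _ _ _ _).symm
  rw [e1]
  conv_lhs => rw [h (U ⊓ W) i (F.presheaf.map i'.op s)]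
  rw [map_sum]
  refine Finset.sum_congr rfl fun j _ => ?_
  have e2 : V.presheaf.germ U x hx (m' j) = V.presheaf.germ (U ⊓ W) x hxW (V.presheaf.map i.op (m' j)) :=
    (TopCat.Presheaf.germ_res_apply _ _ _ _ _).symm
  have e3 : F.presheaf.germ U x hx (m j) = F.presheaf.germ (U ⊓ W) x hxW (F.presheaf.map i.op (m j)) :=
    (TopCat.Presheaf.germ_res_apply _ _ _ _ _).symm
  beta_reduce
  rw [e2, e3, spr_germ]
  exact Groth.Agent.CycB.ModStalk.germ_smul _ _ _ _ _ _

/-- The pairing of stalks is perfect. -/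
theorem spr_surjective (F V : X.Modules) [ExactPairing F V] (x : X) :
    Function.Surjective (spr (evp F V) x) := by
  intro φ
  obtain ⟨n, m, m', h⟩ := exists_coev_stalk F V x
  refine ⟨∑ j, φ (m j) • m' j, ?_⟩
  ext v
  conv_rhs => rw [h v]
  rw [map_sum, map_sum, LinearMap.sum_apply]
  refine Finset.sum_congr rfl fun j _ => ?_
  rw [map_smul, map_smul, LinearMap.smul_apply, smul_eq_mul, smul_eq_mul, mul_comm]

/-- The integral pairing of generic stalks defined by an exact pairing. -/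
def prOfPairing [IsIntegral X] (F V : X.Modules) [ExactPairing F V] : Pr F V where
  pr := spr (evp F V) (genericPoint X)
  surj := spr_surjective F V (genericPoint X)
  int := by
    rintro y _ ⟨e, rfl⟩ _ ⟨v, rfl⟩
    exact ⟨spr (evp F V) y e v, (spr_spec (evp F V) (gen y) e v).symm⟩

end Stalk

section Nef

open K432.NefBasic

/-- The dual of a bundle without invertible subsheaves of positive degree (on regular curves) is nef. -/
theorem cnef_dual (k : Type u) [Field k]
    (X : Scheme.{u}) [X.Over (Spec (CommRingCat.of k))] [IsProper (X ↘ (Spec (CommRingCat.of k)))]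
    (F V : X.Modules) [ExactPairing F V]
    (hFnef : ∀ (C : Scheme.{u}) [C.Over (Spec (CommRingCat.of k))] [IsProper (C ↘ (Spec (CommRingCat.of k)))] [IsIntegral C],
      topologicalKrullDim C = 1 → (∀ x : C, IsRegularLocalRing (C.presheaf.stalk x)) →
      ∀ (f : C ⟶ X), f ≫ (X ↘ (Spec (CommRingCat.of k))) = C ↘ (Spec (CommRingCat.of k)) →
      ∀ (N : C.Modules), PicF.IsInvertible N →
      ∀ (i : N ⟶ (Scheme.Modules.pullback f).obj F), Mono i → Curv2.deg k C N 1 ≤ 0) :
    CNef (X ↘ (Spec (CommRingCat.of k))) V := by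
  rw [cnef_iff_reg, ← cnefReg_iff_hyp]
  intro C _ _ _ hC hreg f hf M hM q hq
  let _ := Dcoh.MonPull.monPull f
  let _ : ExactPairing ((Scheme.Modules.pullback f).obj F) ((Scheme.Modules.pullback f).obj V) :=
    Dcoh.MonDual.mapExactPairing (Scheme.Modules.pullback f) F V
  obtain ⟨N, hN, i, hi, ⟨e⟩⟩ := exists_inv_sub (F := (Scheme.Modules.pullback f).obj F) hM q
  have h1 := hFnef C hC hreg f hf N hN i hi
  have h2 := K708.Deg.deg_eq_neg k hC.le (Ega2.QCohLocal.isFinLocFreeOfRank_one_iff.mpr hM)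
    (Ega2.QCohLocal.isFinLocFreeOfRank_one_iff.mpr hN) e
  linarith

/-- NODE DU : the dual bundle, with its pairing, is nef. -/
theorem exists_dual (k : Type u) [Field k]
    (X : Scheme.{u}) [X.Over (Spec (CommRingCat.of k))] [IsProper (X ↘ (Spec (CommRingCat.of k)))] [IsIntegral X]
    (F : X.Modules) {r : ℕ} (hF : FlatMod.IsFinLocFreeOfRank r F)
    (hFnef : ∀ (C : Scheme.{u}) [C.Over (Spec (CommRingCat.of k))] [IsProper (C ↘ (Spec (CommRingCat.of k)))] [IsIntegral C],
      topologicalKrullDim C = 1 → (∀ x : C, IsRegularLocalRing (C.presheaf.stalk x)) →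
      ∀ (f : C ⟶ X), f ≫ (X ↘ (Spec (CommRingCat.of k))) = C ↘ (Spec (CommRingCat.of k)) →
      ∀ (N : C.Modules), PicF.IsInvertible N →
      ∀ (i : N ⟶ (Scheme.Modules.pullback f).obj F), Mono i → Curv2.deg k C N 1 ≤ 0) :
    ∃ E : X.Modules, FlatMod.IsFinLocFreeOfRank r E ∧ Nonempty (K432.Polar.Pr F E) ∧
      K432.NefBasic.CNef (X ↘ (Spec (CommRingCat.of k))) E := by
  obtain ⟨V, hV, ⟨i⟩⟩ := K708.Dual.exists_dual hF
  exact ⟨V, hV, ⟨prOfPairing F V⟩, cnef_dual k X F V hFnef⟩

end Nef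

end K348.DualNef
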