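import Groth.Agent.Variety.K432.PBC
import Groth.Agent.ShStab.K849.FrobPull
import Groth.Prelude.Def_Frob

/-!
# Frobenius pull-back of a nef bundle is nef
-/

set_option autoImplicit false
universe u

open AlgebraicGeometry CategoryTheory TopologicalSpace Limits Opposite

namespace K348.FrobNef

open K432.NefBasic K432.CurveDeg Groth.Agent

variable {k : Type u} [Field k] (p : ℕ) [Fact p.Prime]

/-- Curve-test nefness is preserved by pull-back along a morphism over the base field. -/
theorem cnef_pullback {X Y : Scheme.{u}} (g : Y ⟶ X) (s : X ⟶ Spec (CommRingCat.of k)) {E : X.Modules}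
    (h : CNef s E) : CNef (g ≫ s) ((Scheme.Modules.pullback g).obj E) := by
  intro C _ f hf hC M hM q hq
  have h0 : IsProper ((f ≫ g) ≫ s) := by rw [Category.assoc]; exact hf
  have h1 := h C (f ≫ g) hC M hM ((Scheme.Modules.pullbackComp f g).inv.app E ≫ q) (by
    have : Epi q := hq
    exact epi_comp _ _)
  rw [Category.assoc] at h1
  exact h1

theorem cnef_congr {X : Scheme.{u}} {s : X ⟶ Spec (CommRingCat.of k)} {E E' : X.Modules} (e : E ≅ E')
    (h : CNef s E) : CNef s E' := by
  intro C _ f hf hC M hM q hq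
  exact h C f hC M hM ((Scheme.Modules.pullback f).map e.hom ≫ q) (by
    have : Epi q := hq
    exact epi_comp _ _)

theorem frob_spec [CharP k p] :
    FrobSch.frob (Spec (CommRingCat.of k)) p = Spec.map (CommRingCat.ofHom (frobenius k p)) := by
  apply AlgebraicGeometry.ext_of_isAffine
  ext s
  apply (Scheme.ΓSpecIso (CommRingCat.of k)).commRingCatIsoToRingEquiv.injective
  have h1 := ConcreteCategory.congr_hom
    (Scheme.ΓSpecIso_naturality (CommRingCat.ofHom (frobenius k p))) s
  refine Eq.trans ?_ h1.symm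
  change (Scheme.ΓSpecIso (CommRingCat.of k)).hom.hom (s ^ p) = ((Scheme.ΓSpecIso (CommRingCat.of k)).hom.hom s) ^ p
  rw [map_pow]

/-- Frobenius pull-back of a nef bundle is nef. -/
theorem cnef_frob [CharP k p] {X : Scheme.{u}} (s : X ⟶ Spec (CommRingCat.of k)) [IsProper s] [FrobSch.IsCharP X p]
    {E : X.Modules} (hE : FlatMod.IsFinLocFree E) (h : CNef s E) :
    CNef s ((Scheme.Modules.pullback (FrobSch.frob X p)).obj E) := by
  have key : ∀ (alg : Algebra k k), @algebraMap k k _ _ alg = frobenius k p →
      CNef s ((Scheme.Modules.pullback (FrobSch.frob X p)).obj E) := by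
    intro alg halg
    have h1 := (@K432.PBC.cnef_bc k k _ _ alg X s _ E hE).mp h
    rw [halg] at h1
    let w := Spec.map (CommRingCat.ofHom (frobenius k p))
    have hw : FrobSch.frob X p ≫ s = s ≫ w := by
      rw [FrobSch.frob_comp, frob_spec]
    let g : X ⟶ pullback s w := pullback.lift (FrobSch.frob X p) s hw
    have h2 := cnef_pullback g (pullback.snd s w) h1
    have h3 : g ≫ pullback.snd s w = s := pullback.lift_snd _ _ _
    rw [h3] at h2
    have h4 : g ≫ pullback.fst s w = FrobSch.frob X p := pullback.lift_fst _ _ _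
    exact cnef_congr ((Scheme.Modules.pullbackComp g (pullback.fst s w)).app E ≪≫
      (Scheme.Modules.pullbackCongr h4).app E) h2
  exact key (frobenius k p).toAlgebra rfl

/-- Iterated Frobenius pull-back. -/
noncomputable def frobPow {X : Scheme.{u}} [FrobSch.IsCharP X p] (E : X.Modules) : ℕ → X.Modules
  | 0 => E
  | n + 1 => (Scheme.Modules.pullback (FrobSch.frob X p)).obj (frobPow E n)

theorem isFinLocFree_frobPow {X : Scheme.{u}} [FrobSch.IsCharP X p] {E : X.Modules}
    (hE : FlatMod.IsFinLocFree E) (n : ℕ) : FlatMod.IsFinLocFree (frobPow p E n) := by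
  induction n with
  | zero => exact hE
  | succ n ih => exact PerfB.FlatPull.isFinLocFree_pullback _ ih

theorem cnef_frobPow [CharP k p] {X : Scheme.{u}} (s : X ⟶ Spec (CommRingCat.of k)) [IsProper s]
    [FrobSch.IsCharP X p] {E : X.Modules} (hE : FlatMod.IsFinLocFree E) (h : CNef s E) (n : ℕ) :
    CNef s (frobPow p E n) := by
  induction n with
  | zero => exact h
  | succ n ih => exact cnef_frob p s (isFinLocFree_frobPow p hE n) ih

/-- NODE FN of S19916: no assumption on the characteristic of the field. -/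
theorem cnef_FP (k : Type u) [Field k] {X : Scheme.{u}} (s : X ⟶ Spec (CommRingCat.of k)) [IsProper s]
    (p : ℕ) [Fact p.Prime] [FrobSch.IsCharP X p] {E : X.Modules} (hE : FlatMod.IsFinLocFree E)
    (h : K432.NefBasic.CNef s E) : K432.NefBasic.CNef s (K849.FrobPull.FP p E) := by
  intro C hCint f hf hC M hM q hq
  have hCP : FrobSch.IsCharP C p := FrobSch.IsCharP.of_hom f p
  have hne : Nontrivial Γ(C, ⊤) := inferInstance
  have hk : (p : k) = 0 := by
    have h1 : ((f ≫ s).appTop.hom ((Scheme.ΓSpecIso (CommRingCat.of k)).inv.hom (p : k)) : Γ(C, ⊤)) = 0 := by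
      rw [map_natCast, map_natCast]
      exact hCP.natCast_eq_zero
    by_contra hn
    have h2 : IsUnit ((f ≫ s).appTop.hom ((Scheme.ΓSpecIso (CommRingCat.of k)).inv.hom (p : k)) : Γ(C, ⊤)) :=
      ((isUnit_iff_ne_zero.mpr hn).map _).map _
    rw [h1] at h2
    exact not_isUnit_zero h2
  have hkp : CharP k p := (CharP.charP_iff_prime_eq_zero Fact.out).2 hk
  exact cnef_frob p s hE h C f hC M hM q hq

end K348.FrobNef
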